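import Cfsg.Agent.DS.Defs

/-!
# `PS` from `SD` (box `BoxSD`), and the box `BoxTop` (helper54)
-/

set_option autoImplicit false

namespace Cfsg.Agent.DS.Gen

open Cfsg.Agent.H936 Subgroup

/-- The derived series of a finite group is eventually stationary. -/
theorem exists_ps (X : Type*) [Group X] [Finite X] : ∃ m, PS m X := by
  obtain ⟨_, ⟨m, rfl⟩, hmin⟩ := WellFounded.has_min (wellFounded_lt (α := Subgroup X)) (Set.range (derivedSeries X))
    ⟨_, 0, rfl⟩
  exact ⟨m, eq_of_le_of_not_lt (derivedSeries_antitone X (Nat.le_succ m)) (hmin _ ⟨m + 1, rfl⟩)⟩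

/-- A normal subgroup with solvable quotient has a solvable supplement. -/
theorem exists_solvable_supplement {X : Type*} [Group X] [Finite X] (R : Subgroup X) [R.Normal]
    (hR : Group.IsSolvable (X ⧸ R)) : ∃ Y : Subgroup X, Group.IsSolvable Y ∧ R ⊔ Y = ⊤ := by
  obtain ⟨Y, hY, hmin⟩ := WellFounded.has_min (wellFounded_lt (α := Subgroup X)) {Y : Subgroup X | R ⊔ Y = ⊤}
    ⟨⊤, by simp⟩
  refine ⟨Y, ?_, hY⟩
  have h1 : R.subgroupOf Y ≤ frattini Y := by
    simp only [frattini, Order.radical, le_iInf_iff]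
    intro M hM
    by_contra hcon
    have h2 : R.subgroupOf Y ⊔ M = ⊤ := by
      refine (hM.le_iff.mp (le_sup_right : M ≤ R.subgroupOf Y ⊔ M)).resolve_right fun h1 => hcon ?_
      rw [← h1]
      exact le_sup_left
    refine hmin (M.map Y.subtype) ?_ ?_
    · change R ⊔ M.map Y.subtype = ⊤
      rw [eq_top_iff, ← hY]
      refine sup_le le_sup_left ?_
      have h3 : (R.subgroupOf Y ⊔ M).map Y.subtype = Y := by
        rw [h2, ← MonoidHom.range_eq_map, range_subtype]
      refine h3.symm.le.trans ?_
      rw [Subgroup.map_sup]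
      refine sup_le_sup_right ?_ _
      rw [subgroupOf_map_subtype]
      exact inf_le_left
    · refine lt_of_le_of_ne (map_subtype_le M) fun h => hM.1 ?_
      apply map_injective Y.subtype_injective
      rw [h, ← MonoidHom.range_eq_map, range_subtype]
  have h2 : Group.IsNilpotent (frattini Y) := frattini_nilpotent
  have h3 : Group.IsSolvable (R.subgroupOf Y) :=
    Group.isSolvable_of_isSolvable_injective (f := inclusion h1) (inclusion_injective h1)
  refine Group.isSolvable_of_ker_le_range (R.subgroupOf Y).subtype ((QuotientGroup.mk' R).comp Y.subtype) ?_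
  intro y hy
  rw [range_subtype, mem_subgroupOf]
  simpa using hy

/-- `PS` from `SD`. -/
theorem ps_of_sd {k : ℕ} {X : Type*} [Group X] [Finite X] (h : SD k X) : PS k X := by
  obtain ⟨m, hm⟩ := exists_ps X
  have hR : Group.IsSolvable (X ⧸ derivedSeries X m) := by
    refine ⟨⟨m, ?_⟩⟩
    rw [← map_derivedSeries_of_surj (QuotientGroup.mk'_surjective (derivedSeries X m)) m, Subgroup.map_eq_bot_iff,
      QuotientGroup.ker_mk']
  obtain ⟨Y, hY, hsup⟩ := exists_solvable_supplement (derivedSeries X m) hR
  have h1 := h Y hY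
  have hs : Function.Surjective ((QuotientGroup.mk' (derivedSeries X m)).comp Y.subtype) := by
    intro z
    obtain ⟨g, rfl⟩ := QuotientGroup.mk'_surjective _ z
    have h2 : g ∈ derivedSeries X m ⊔ Y := by rw [hsup]; exact mem_top g
    rw [Subgroup.mem_sup_of_normal_left] at h2
    obtain ⟨x, hx, a, ha, rfl⟩ := h2
    refine ⟨⟨a, ha⟩, ?_⟩
    simp only [MonoidHom.comp_apply, coe_subtype, QuotientGroup.mk'_apply, QuotientGroup.mk_mul]
    rw [(QuotientGroup.eq_one_iff x).2 hx, one_mul]
  have h2 := map_derivedSeries_of_surj hs k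
  rw [h1, Subgroup.map_bot, ← map_derivedSeries_of_surj (QuotientGroup.mk'_surjective (derivedSeries X m)) k, eq_comm,
    Subgroup.map_eq_bot_iff, QuotientGroup.ker_mk'] at h2
  refine le_antisymm (derivedSeries_antitone X (Nat.le_succ _)) (h2.trans ?_)
  rw [← hm.eq (le_max_left m (k + 1))]
  exact derivedSeries_antitone X (le_max_right m (k + 1))

theorem boxSD : BoxSD := fun _ _ _ _ h => ps_of_sd h

theorem SD.mono {k m : ℕ} {X : Type*} [Group X] (h : SD k X) (hm : k ≤ m) : SD m X := by
  intro Y hY
  rw [eq_bot_iff, ← h Y hY]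
  exact derivedSeries_antitone Y hm

/-- `SD` passes to subgroups. -/
theorem SD.of_inj {k : ℕ} {X Z : Type*} [Group X] [Group Z] (f : Z →* X) (hf : Function.Injective f) (h : SD k X) :
    SD k Z := by
  intro Y hY
  have h1 : Group.IsSolvable (Y.map f) :=
    Group.isSolvable_of_surjective (f := (Y.equivMapOfInjective f hf).toMonoidHom) (Y.equivMapOfInjective f hf).surjective
  have h2 := h _ h1
  have h3 := map_derivedSeries_of_surj (f := (Y.equivMapOfInjective f hf).symm.toMonoidHom)
    (Y.equivMapOfInjective f hf).symm.surjective k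
  rw [← h3, h2, Subgroup.map_bot]

/-- `SD` passes to quotients of finite groups. -/
theorem SD.of_surj {k : ℕ} {X Z : Type*} [Group X] [Finite X] [Group Z] (f : X →* Z) (hf : Function.Surjective f)
    (h : SD k X) : SD k Z := by
  intro Y hY
  have h1 : PS k (Y.comap f) := ps_of_sd (SD.of_inj (Y.comap f).subtype (Y.comap f).subtype_injective h)
  have h2 : Function.Surjective (f.subgroupComap Y) := f.subgroupComap_surjective_of_surjective Y hf
  have h3 : PS k Y := PS.of_surj h2 h1
  obtain ⟨n, hn⟩ := hY.solvable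
  rw [← h3.eq (le_max_left k n), eq_bot_iff, ← hn]
  exact derivedSeries_antitone Y (le_max_right k n)

/-- `G⁽ⁿ⁾ ≤ S` if `S` is a normal subgroup with trivial centralizer and `Out S` has derived length at most `n`. -/
theorem derivedSeries_le_of_ds {G : Type*} [Group G] {S : Subgroup G} [S.Normal]
    (hC : centralizer (S : Set G) = ⊥) {n : ℕ} (hd : DS n S) : derivedSeries G n ≤ S := by
  intro x hx
  have h1 : (MulAut.conjNormal : G →* MulAut S) x ∈ derivedSeries (MulAut S) n :=
    map_derivedSeries_le _ n ⟨x, hx, rfl⟩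
  obtain ⟨s, hs'⟩ := hd h1
  have h2 : (s : G)⁻¹ * x ∈ Subgroup.centralizer (S : Set G) := by
    rw [Subgroup.mem_centralizer_iff]
    intro y hy
    have h3 := congrArg Subtype.val (DFunLike.congr_fun hs' ⟨y, hy⟩)
    have h4 : (s : G) * y * (s : G)⁻¹ = (x : G) * y * (x : G)⁻¹ := h3
    calc y * ((s : G)⁻¹ * x) = (s : G)⁻¹ * ((s : G) * y * (s : G)⁻¹) * x := by group
      _ = (s : G)⁻¹ * x * y := by rw [h4]; group
  rw [hC, Subgroup.mem_bot, inv_mul_eq_one] at h2
  rw [← h2]
  exact s.2

theorem commutator_self_of_ps_zero {G : Type*} [Group G] {S : Subgroup G} (h : PS 0 S) : ⁅S, S⁆ = S := by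
  unfold PS at h
  rw [derivedSeries_succ, derivedSeries_zero] at h
  have h1 := congrArg (Subgroup.map S.subtype) h
  rwa [Subgroup.map_commutator, ← MonoidHom.range_eq_map, range_subtype] at h1

theorem ps_zero_of_simple {T : Type*} [Group T] [IsSimpleGroup T] (hT : ¬ IsMulCommutative T) : PS 0 T := by
  unfold PS
  rw [derivedSeries_one, derivedSeries_zero]
  have : (commutator T).Normal := inferInstance
  rcases this.eq_bot_or_eq_top with h | h
  · exfalso
    apply hT
    refine ⟨⟨fun a b => ?_⟩⟩
    have h1 := Subgroup.commutator_mem_commutator (Subgroup.mem_top a) (Subgroup.mem_top b)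
    rw [← commutator_def, h, Subgroup.mem_bot, commutatorElement_eq_one_iff_mul_comm] at h1
    exact h1
  · exact h

theorem boxTop : BoxTop := by
  intro big G _ _ S hN hS hSa hC H hH
  exact PS.of_perfect (commutator_self_of_ps_zero (ps_zero_of_simple hSa)) hH
    (derivedSeries_le_of_ds hC (big.sch S hSa))

end Cfsg.Agent.DS.Gen
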