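import Cfsg.Agent.DS.Gen.Perm
import Cfsg.Agent.DS.Red.Perf

/-!
# The box `BoxSplit` (helper54)

`ps_of_noab` : if `X⁽ᵃ⁾ ≤ D` and `D` contains no non-trivial abelian normal subgroup of `X`, then `PS (a + c) X`, where
`SD c` holds for the symmetric groups on the factors of the powers of simple groups in `D`.
`exists_elab` : a non-trivial abelian `H`-invariant subgroup contains a minimal one, which is elementary abelian.
-/

set_option autoImplicit false

open scoped commutatorElement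

namespace Cfsg.Agent.DS.Gen

open Cfsg.Agent.H936 Cfsg.Agent.DS.Red Subgroup

theorem SD.pi {k : ℕ} {ι : Type*} {X : ι → Type*} [∀ i, Group (X i)] (h : ∀ i, SD k (X i)) : SD k (∀ i, X i) := by
  intro Y hY
  rw [eq_bot_iff]
  intro y hy
  rw [mem_bot]
  apply Subtype.ext
  funext i
  let f : Y →* X i := (Pi.evalMonoidHom X i).comp Y.subtype
  have h1 : Group.IsSolvable f.range := Group.isSolvable_of_surjective f.rangeRestrict_surjective
  have h2 : f.rangeRestrict y ∈ derivedSeries f.range k := map_derivedSeries_le _ k ⟨y, hy, rfl⟩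
  rw [h i _ h1, mem_bot] at h2
  exact congrArg Subtype.val h2

/-- `PS k K` if `K⁽ᵏ⁾` lies in a perfect subgroup of `K`. -/
theorem ps_of_perfect_le {X : Type*} [Group X] {K Q : Subgroup X} {k : ℕ} (hQ : Q ≤ ⁅Q, Q⁆) (hQK : Q ≤ K)
    (h : ∀ x ∈ derivedSeries K k, (x : X) ∈ Q) : PS k K := by
  have h1 : ∀ j, Q ≤ (derivedSeries K j).map K.subtype := by
    intro j
    induction j with
    | zero =>
      rw [derivedSeries_zero, ← MonoidHom.range_eq_map, Subgroup.range_subtype]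
      exact hQK
    | succ j ih =>
      rw [derivedSeries_succ, Subgroup.map_commutator]
      exact hQ.trans (Subgroup.commutator_mono ih ih)
  refine le_antisymm (derivedSeries_antitone K (Nat.le_succ _)) fun x hx => ?_
  obtain ⟨y, hy, hyx⟩ := h1 (k + 1) (h x hx)
  have : y = x := Subtype.ext hyx
  exact this ▸ hy

/-- the minimal normal subgroups of `X` contained in `D` -/
def MinIn {X : Type*} [Group X] (D N : Subgroup X) : Prop :=
  N.Normal ∧ N ≤ D ∧ N ≠ ⊥ ∧ ∀ M : Subgroup X, M.Normal → M ≤ N → M = ⊥ ∨ M = N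

theorem exists_minIn {X : Type*} [Group X] [Finite X] {D Z : Subgroup X} (hZ : Z.Normal) (hZD : Z ≤ D) (h0 : Z ≠ ⊥) :
    ∃ N, N ≤ Z ∧ MinIn D N := by
  obtain ⟨N, ⟨hNM, hNn, hN0⟩, hmin'⟩ := WellFounded.has_min (wellFounded_lt (α := Subgroup X))
    {N : Subgroup X | N ≤ Z ∧ N.Normal ∧ N ≠ ⊥} ⟨Z, le_rfl, hZ, h0⟩
  refine ⟨N, hNM, hNn, hNM.trans hZD, hN0, fun K hK hKN => ?_⟩
  by_cases h0 : K = ⊥
  · exact Or.inl h0
  · exact Or.inr (eq_of_le_of_not_lt hKN (hmin' K ⟨hKN.trans hNM, hK, h0⟩))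

theorem MinIn.le_centralizer {X : Type*} [Group X] {D N N' : Subgroup X} (h : MinIn D N) (h' : MinIn D N')
    (hne : N ≠ N') : N ≤ centralizer (N' : Set X) := by
  have := h.1
  have := h'.1
  have h1 : N ⊓ N' = ⊥ := by
    rcases h.2.2.2 (N ⊓ N') inferInstance inf_le_left with h1 | h1
    · exact h1
    · rcases h'.2.2.2 N inferInstance (by rw [← h1]; exact inf_le_right) with h2 | h2
      · exact absurd h2 h.2.2.1
      · exact absurd h2 hne
  rw [← commutator_eq_bot_iff_le_centralizer, eq_bot_iff, ← h1]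
  exact commutator_le_inf N N'

/-- An element acting as an inner automorphism on each minimal normal subgroup in `D`. -/
theorem exists_mem_sup {X : Type*} [Group X] {D : Subgroup X} (x : X)
    (hx : ∀ N, MinIn D N → ∃ n ∈ N, n⁻¹ * x ∈ centralizer (N : Set X)) (s : Finset (Subgroup X))
    (hs : ∀ N ∈ s, MinIn D N) : ∃ m ∈ s.sup id, ∀ N ∈ s, m⁻¹ * x ∈ centralizer (N : Set X) := by
  classical
  induction s using Finset.induction_on with
  | empty => exact ⟨1, one_mem _, by simp⟩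
  | insert N₀ s hN₀ ih =>
    obtain ⟨m, hm, hmx⟩ := ih fun N hN => hs N (Finset.mem_insert_of_mem hN)
    have h0 := hs N₀ (Finset.mem_insert_self _ _)
    obtain ⟨n, hn, hnx⟩ := hx N₀ h0
    have hmC : m ∈ centralizer (N₀ : Set X) := by
      refine (Finset.sup_le fun N hN => ?_ : s.sup id ≤ centralizer (N₀ : Set X)) hm
      exact (hs N (Finset.mem_insert_of_mem hN)).le_centralizer h0 fun h => hN₀ (h ▸ hN)
    refine ⟨m * n, ?_, fun N hN => ?_⟩
    · rw [Finset.sup_insert]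
      exact mul_mem (mem_sup_right hm) (mem_sup_left hn)
    · rcases Finset.mem_insert.1 hN with rfl | hN
      · have h1 : (m * n)⁻¹ * x = m⁻¹ * (n⁻¹ * x) := by
          rw [← mem_centralizer_iff.1 hmC n hn]
          group
        rw [h1]
        exact mul_mem (inv_mem hmC) hnx
      · have h1 : (m * n)⁻¹ * x = n⁻¹ * (m⁻¹ * x) := by group
        rw [h1]
        refine mul_mem (inv_mem ?_) (hmx N hN)
        exact h0.le_centralizer (hs N (Finset.mem_insert_of_mem hN)) (fun h => hN₀ (h ▸ hN)) hn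

/-- **No abelian normal subgroups in `D`.** -/
theorem ps_of_noab (big : Big) {X : Type} [Group X] [Finite X] (D : Subgroup X) [D.Normal] {a c : ℕ} (ha : 3 ≤ a)
    (hD : derivedSeries X a ≤ D)
    (hab : ∀ A : Subgroup X, A.Normal → A ≤ D → (∀ x ∈ A, ∀ y ∈ A, x * y = y * x) → A = ⊥)
    (hk : ∀ (U : Type) [Group U] [Finite U] [IsSimpleGroup U], ¬ IsMulCommutative U →
      ∀ (k : ℕ) (f : (Fin k → U) →* D), Function.Injective f → SD c (Equiv.Perm (Fin k))) : PS (a + c) X := by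
  classical
  have hstr : ∀ N : {N // MinIn D N}, ∃ (T : Subgroup X) (m : ℕ), IsSimpleGroup T ∧ ¬ IsMulCommutative T ∧
      Nonempty (N.1 ≃* (Fin m → T)) := by
    rintro ⟨N, hN⟩
    have := hN.1
    obtain ⟨T, m, -, hT, -, ⟨e⟩⟩ := Cfsg.Agent.Lib.MinNormal.exists_mulEquiv_pi N hN.2.2.1 hN.2.2.2
    refine ⟨T, m, hT, fun h => hN.2.2.1 (hab N hN.1 hN.2.1 fun x hx y hy => ?_), ⟨e⟩⟩
    have h1 : (⟨x, hx⟩ : N) * ⟨y, hy⟩ = ⟨y, hy⟩ * ⟨x, hx⟩ := by
      apply e.injective
      rw [map_mul, map_mul]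
      funext i
      exact h.is_comm.comm _ _
    exact congrArg Subtype.val h1
  choose T m hT hTa he using hstr
  let e : ∀ N : {N // MinIn D N}, N.1 ≃* (Fin (m N) → T N) := fun N => (he N).some
  have hle : ∀ N : {N // MinIn D N}, (⊤ : Subgroup X) ≤ normalizer (N.1 : Set X) := fun N => by
    have := N.2.1
    rw [normalizer_eq_top]
  let cN : ∀ N : {N // MinIn D N}, X →* MulAut (Fin (m N) → T N) := fun N =>
    (cj (e N) ⊤ (hle N)).comp (Subgroup.topEquiv (G := X)).symm.toMonoidHom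
  let σ : X →* ∀ N : {N // MinIn D N}, Equiv.Perm (Fin (m N)) :=
    MonoidHom.pi fun N => (AutPow.perm (hTa N)).comp (cN N)
  have hσ : ∀ x, σ x = 1 ↔ ∀ N, AutPow.perm (hTa N) (cN N x) = 1 := fun x => funext_iff
  have hSD : SD c (∀ N : {N // MinIn D N}, Equiv.Perm (Fin (m N))) := by
    refine SD.pi fun N => ?_
    refine hk (T N) (hTa N) (m N) ((inclusion N.2.2.1).comp (e N).symm.toMonoidHom) ?_
    exact (inclusion_injective N.2.2.1).comp (e N).symm.injective
  have hfin : {N : Subgroup X | MinIn D N}.Finite := Set.toFinite _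
  let M : Subgroup X := hfin.toFinset.sup id
  have hNM : ∀ N, MinIn D N → N ≤ M := fun N hN =>
    Finset.le_sup (f := id) ((Set.Finite.mem_toFinset hfin).2 hN)
  have hMle : ∀ Y : Subgroup X, (∀ N, MinIn D N → N ≤ Y) → M ≤ Y := fun Y hY =>
    Finset.sup_le fun N hN => hY N ((Set.Finite.mem_toFinset hfin).1 hN)
  have hMperf : M ≤ ⁅M, M⁆ := by
    refine hMle _ fun N hN => ?_
    have := hT ⟨N, hN⟩
    have h1 : PS 0 N := PS.of_equiv (e ⟨N, hN⟩).symm (PS.pi fun _ => ps_zero_of_simple (hTa ⟨N, hN⟩))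
    rw [← commutator_self_of_ps_zero h1]
    exact commutator_mono (hNM N hN) (hNM N hN)
  have hMK : M ≤ σ.ker := by
    refine hMle _ fun N hN x hx => ?_
    rw [MonoidHom.mem_ker, hσ]
    intro N'
    by_cases h : N = N'.1
    · subst h
      have h1 : cN N' x = MulAut.conj (e N' ⟨x, hx⟩) := cj_mem (e N') ⊤ (hle N') ⟨x, mem_top x⟩ hx
      rw [h1, AutPow.perm_conj]
    · have h1 : cN N' x = 1 := (cj_eq_one_iff (e N') ⊤ (hle N') ⟨x, mem_top x⟩).2 (hN.le_centralizer N'.2 h hx)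
      rw [h1, map_one]
  have hK : PS a σ.ker := by
    refine ps_of_perfect_le hMperf hMK fun x hx => ?_
    have hxD : (x : X) ∈ D := hD (map_derivedSeries_le σ.ker.subtype a ⟨x, hx, rfl⟩)
    have hx3 : x ∈ derivedSeries σ.ker 3 := derivedSeries_antitone _ ha hx
    have h1 : ∀ N, MinIn D N → ∃ n ∈ N, n⁻¹ * (x : X) ∈ centralizer (N : Set X) := by
      intro N hN
      have := hT ⟨N, hN⟩
      obtain ⟨y, hy⟩ := AutPow.map_derivedSeries_le_conj (hTa ⟨N, hN⟩) (big.sch _ (hTa ⟨N, hN⟩))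
        ((cN ⟨N, hN⟩).comp σ.ker.subtype) (fun k => (hσ k).1 k.2 ⟨N, hN⟩) hx3
      obtain ⟨n, rfl⟩ := (e ⟨N, hN⟩).surjective y
      exact ⟨n, n.2, cj_eq_conj_iff (e ⟨N, hN⟩) ⊤ (hle ⟨N, hN⟩) ⟨x, mem_top _⟩ n hy⟩
    obtain ⟨y, hy, hyx⟩ := exists_mem_sup (x : X) h1 hfin.toFinset fun N hN => (Set.Finite.mem_toFinset hfin).1 hN
    let Z : Subgroup X := D ⊓ ⨅ N : {N // MinIn D N}, centralizer (N.1 : Set X)
    have hZn : Z.Normal := by
      have h2 : (⨅ N : {N // MinIn D N}, centralizer (N.1 : Set X)).Normal :=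
        Subgroup.normal_iInf_normal fun N => by
          have := N.2.1
          infer_instance
      infer_instance
    have hZ : Z = ⊥ := by
      by_contra h0
      obtain ⟨N, hNZ, hN⟩ := exists_minIn (D := D) hZn inf_le_left h0
      refine hN.2.2.1 (hab N hN.1 hN.2.1 fun u hu v hv => ?_)
      have h2 : v ∈ centralizer (N : Set X) := (mem_iInf.1 (hNZ hv).2) ⟨N, hN⟩
      exact mem_centralizer_iff.1 h2 u hu
    have h2 : y⁻¹ * (x : X) ∈ Z := by
      refine ⟨D.mul_mem (D.inv_mem (hMle D (fun N hN => hN.2.1) hy)) hxD, mem_iInf.2 fun N => ?_⟩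
      exact hyx N.1 ((Set.Finite.mem_toFinset hfin).2 N.2)
    rw [hZ, mem_bot, inv_mul_eq_one] at h2
    rw [← h2]
    exact hy
  have hR : PS c σ.range := ps_of_sd (SD.of_inj σ.range.subtype σ.range.subtype_injective hSD)
  refine PS.of_ker σ.rangeRestrict_surjective ?_ hR
  rwa [MonoidHom.ker_rangeRestrict]

/-- A non-trivial abelian `H`-invariant subgroup contains a minimal one, which is elementary abelian. -/
theorem exists_elab {G : Type*} [Group G] [Finite G] {H A : Subgroup G} (hA : H ≤ normalizer (A : Set G)) (h0 : A ≠ ⊥)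
    (hc : ∀ x ∈ A, ∀ y ∈ A, x * y = y * x) : ∃ (E : Subgroup G) (r : ℕ), E ≤ A ∧ r.Prime ∧ E ≠ ⊥ ∧
      (∀ x ∈ E, x ^ r = 1) ∧ H ≤ normalizer (E : Set G) ∧
      ∀ E' : Subgroup G, E' ≤ E → H ≤ normalizer (E' : Set G) → E' = ⊥ ∨ E' = E := by
  obtain ⟨E, ⟨hEA, hEn, hE0⟩, hmin'⟩ := WellFounded.has_min (wellFounded_lt (α := Subgroup G))
    {N : Subgroup G | N ≤ A ∧ H ≤ normalizer (N : Set G) ∧ N ≠ ⊥} ⟨A, le_rfl, hA, h0⟩
  have hmin : ∀ K : Subgroup G, K ≤ E → H ≤ normalizer (K : Set G) → K = ⊥ ∨ K = E := by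
    intro K hKN hK
    by_cases h0 : K = ⊥
    · exact Or.inl h0
    · exact Or.inr (eq_of_le_of_not_lt hKN (hmin' K ⟨hKN.trans hEA, hK, h0⟩))
  have h1 : Nat.card E ≠ 1 := by rwa [Ne, card_eq_one]
  obtain ⟨p, hp, hpN⟩ := Nat.exists_prime_and_dvd h1
  have := Fact.mk hp
  obtain ⟨x, hx⟩ := exists_prime_orderOf_dvd_card' p hpN
  let K : Subgroup G :=
    { carrier := {y | y ∈ E ∧ y ^ p = 1}
      one_mem' := ⟨E.one_mem, one_pow p⟩
      mul_mem' := by
        rintro a b ⟨ha, ha'⟩ ⟨hb, hb'⟩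
        refine ⟨E.mul_mem ha hb, ?_⟩
        rw [Commute.mul_pow (hc a (hEA ha) b (hEA hb)), ha', hb', one_mul]
      inv_mem' := by
        rintro a ⟨ha, ha'⟩
        exact ⟨E.inv_mem ha, by rw [inv_pow, ha', inv_one]⟩ }
  have hK : H ≤ normalizer (K : Set G) := by
    refine le_normalizer_of_conj ?_
    rintro g hg a ⟨ha, ha'⟩
    exact ⟨conj_mem_of_le hEn hg ha, by rw [conj_pow, ha', mul_one, mul_inv_cancel]⟩
  rcases hmin K (fun y hy => hy.1) hK with h | h
  · exfalso
    have h2 : (x : G) ∈ K := ⟨x.2, by rw [← hx, ← coe_pow, pow_orderOf_eq_one, coe_one]⟩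
    rw [h, mem_bot] at h2
    have h3 : x = 1 := Subtype.ext h2
    rw [h3, orderOf_one] at hx
    exact hp.one_lt.ne hx
  · refine ⟨E, p, hEA, hp, hE0, fun y hy => ?_, hEn, hmin⟩
    rw [← h] at hy
    exact hy.2

/-- `H` is the normalizer of every non-trivial proper `H`-invariant subgroup of `S`. -/
theorem normalizer_eq_of_setup {G : Type} [Group G] {S H A : Subgroup G} (hs : Setup S H) (hAS : A ≤ S)
    (h0 : A ≠ ⊥) (hS : A ≠ S) (hA : H ≤ normalizer (A : Set G)) : normalizer (A : Set G) = H := by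
  refine (hs.coatom.le_iff.mp hA).resolve_left fun h => ?_
  have h1 : A.Normal := normalizer_eq_top_iff.1 h
  have h2 := hs.simple
  rcases (inferInstance : (A.subgroupOf S).Normal).eq_bot_or_eq_top with h3 | h3
  · apply h0
    rw [← map_subgroupOf_eq_of_le hAS, h3, Subgroup.map_bot]
  · exact hS (le_antisymm hAS (subgroupOf_eq_top.1 h3))

/-- A non-trivial abelian `H`-invariant subgroup of `S` gives the local case. -/
theorem exists_loc {G : Type} [Group G] [Finite G] {S H A : Subgroup G} (hs : Setup S H) (hAS : A ≤ S)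
    (hA : H ≤ normalizer (A : Set G)) (h0 : A ≠ ⊥) (hc : ∀ x ∈ A, ∀ y ∈ A, x * y = y * x) :
    ∃ (E : Subgroup G) (r : ℕ), E ≤ A ∧ Loc S H E r := by
  obtain ⟨E, r, hEA, hr, hE0, hpow, hEn, hmin⟩ := exists_elab hA h0 hc
  have hES : E ≠ S := by
    intro h
    apply hs.noncomm
    refine ⟨⟨fun x y => Subtype.ext ?_⟩⟩
    exact hc x (hEA (h ▸ x.2)) y (hEA (h ▸ y.2))
  exact ⟨E, r, hEA, { hs with
    prime := hr
    ne_bot := hE0
    le_S := hEA.trans hAS
    pow := hpow
    comm := fun x hx y hy => hc x (hEA hx) y (hEA hy)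
    norm := normalizer_eq_of_setup hs (hEA.trans hAS) hE0 hES hEn
    min := hmin }⟩

/-- **Local or `PS (3 + c)`.** -/
theorem split_of (big : Big) {G : Type} [Group G] [Finite G] {S H : Subgroup G} (hs : Setup S H) {c : ℕ}
    (hk : ∀ (U : Type) [Group U] [Finite U] [IsSimpleGroup U], ¬ IsMulCommutative U →
      ∀ (k : ℕ) (f : (Fin k → U) →* S), Function.Injective f → (∀ x, (f x : G) ∈ H) → SD c (Equiv.Perm (Fin k))) :
    PS (3 + c) H ∨ ∃ (E : Subgroup G) (r : ℕ), Loc S H E r := by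
  have := hs.normal
  have := hs.simple
  by_cases hab : ∀ A : Subgroup H, A.Normal → A ≤ S.subgroupOf H → (∀ x ∈ A, ∀ y ∈ A, x * y = y * x) → A = ⊥
  · left
    refine ps_of_noab big (S.subgroupOf H) le_rfl ?_ hab ?_
    · intro x hx
      exact derivedSeries_le_of_ds hs.cent (big.sch S hs.noncomm) (map_derivedSeries_le H.subtype 3 ⟨x, hx, rfl⟩)
    · intro U _ _ _ hU k f hf
      let g : S.subgroupOf H →* S := (H.subtype.comp (S.subgroupOf H).subtype).codRestrict S fun x => x.2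
      refine hk U hU k (g.comp f) ?_ fun x => (f x).1.2
      intro x y hxy
      apply hf
      apply Subtype.ext
      apply Subtype.ext
      exact congrArg (fun z : S => (z : G)) hxy
  · right
    push Not at hab
    obtain ⟨A, hAn, hAS, hc, h0⟩ := hab
    refine (exists_loc (A := A.map H.subtype) hs ?_ ?_ ?_ ?_).imp fun E => Exists.imp fun r h => h.2
    · rintro _ ⟨x, hx, rfl⟩
      exact hAS hx
    · refine le_normalizer_of_conj ?_
      rintro g hg _ ⟨x, hx, rfl⟩
      exact ⟨_, hAn.conj_mem x hx ⟨g, hg⟩, rfl⟩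
    · rwa [Ne, Subgroup.map_eq_bot_iff_of_injective _ H.subtype_injective]
    · rintro _ ⟨x, hx, rfl⟩ _ ⟨y, hy, rfl⟩
      exact congrArg Subtype.val (hc x hx y hy)

theorem boxSplit : BoxSplit := fun big _ _ _ _ _ hs hk =>
  split_of (c := 6) big hs fun U _ _ _ hU k f hf _ => boxPerm k (hk U hU k f hf)

end Cfsg.Agent.DS.Gen
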