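import Cfsg.Agent.H936.PSBase

/-!
# The derived series and the number of prime factors of the order (helper54)

`ps_of_omega` : `PS k X` if `Ω(|X|) ≤ k + k / 2` (two consecutive factors of the derived series of `X'` are not both
cyclic).
-/

set_option autoImplicit false

namespace Cfsg.Agent.DS.Gen

open Cfsg.Agent.H936 Subgroup ArithmeticFunction

theorem omega_of_le {X : Type*} [Group X] [Finite X] {A B : Subgroup X} (h : B ≤ A) :
    cardFactors (Nat.card A) = cardFactors (Nat.card B) + cardFactors (B.relIndex A) := by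
  have h1 : Nat.card A = Nat.card B * B.relIndex A := by
    rw [← Nat.card_congr (subgroupOfEquivOfLe h).toEquiv]
    exact (card_mul_index (B.subgroupOf A)).symm
  rw [h1]
  exact cardFactors_mul Nat.card_pos.ne' (index_ne_zero_of_finite (H := B.subgroupOf A))

theorem omega_pos_of_ne {X : Type*} [Group X] [Finite X] {A B : Subgroup X} (h : B ≤ A) (hne : B ≠ A) :
    1 ≤ cardFactors (B.relIndex A) := by
  refine cardFactors_pos_iff_one_lt.2 (one_lt_index_of_ne_top fun h1 => hne ?_)
  exact le_antisymm h (subgroupOf_eq_top.1 h1)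

theorem three_le_of_bot {X : Type*} [Group X] [Finite X] {j : ℕ} (h3 : derivedSeries X (j + 3) = ⊥)
    (h2 : derivedSeries X (j + 2) ≠ ⊥) : 3 ≤ cardFactors (Nat.card (derivedSeries X (j + 1))) := by
  set A := derivedSeries X (j + 1) with hA
  set B := derivedSeries X (j + 2) with hB
  have hBA : B ≤ A := derivedSeries_antitone X (Nat.le_succ _)
  have hne : B ≠ A := fun h => h2 (by
    have h4 : PS (j + 1) X := h
    rw [hB, ← h3, h4.eq (by omega : j + 1 ≤ j + 3), h4.eq (by omega : j + 1 ≤ j + 2)])
  by_contra hcon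
  have h4 := omega_of_le hBA
  have h5 := omega_pos_of_ne hBA hne
  have h6 : 1 ≤ cardFactors (Nat.card B) := cardFactors_pos_iff_one_lt.2 (one_lt_card_iff_ne_bot B |>.2 h2)
  have h7 : (Nat.card B).Prime := cardFactors_eq_one_iff_prime.1 (by omega)
  have h8 : (B.relIndex A).Prime := cardFactors_eq_one_iff_prime.1 (by omega)
  have := Fact.mk h7
  have := Fact.mk h8
  have hc1 : IsCyclic B := isCyclic_of_prime_card (p := Nat.card B) rfl
  have hc2 : IsCyclic (A ⧸ B.subgroupOf A) := isCyclic_of_prime_card (p := B.relIndex A) rfl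
  have h9 : commutator X ≤ (MulAut.conjNormal : X →* MulAut B).ker := by
    rw [_root_.commutator_def, Subgroup.commutator_le]
    intro a _ b _
    rw [MonoidHom.mem_ker, map_commutatorElement, commutatorElement_eq_one_iff_mul_comm]
    apply (IsCyclic.mulAutMulEquiv B).injective
    rw [map_mul, map_mul, mul_comm]
  have h10 : (QuotientGroup.mk' (B.subgroupOf A)).ker ≤ center A := by
    rw [QuotientGroup.ker_mk']
    intro b hb
    rw [mem_center_iff]
    intro a
    have h11 : (a : X) ∈ commutator X := by
      rw [← derivedSeries_one]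
      exact derivedSeries_antitone X (by omega : 1 ≤ j + 1) a.2
    have h12 := congrArg Subtype.val (DFunLike.congr_fun (MonoidHom.mem_ker.1 (h9 h11)) (⟨b, hb⟩ : B))
    have h13 : (a : X) * b * (a : X)⁻¹ = b := h12
    exact Subtype.ext (mul_inv_eq_iff_eq_mul.1 h13)
  apply h2
  rw [hB, derivedSeries_succ, eq_bot_iff, Subgroup.commutator_le]
  intro a ha b hb
  rw [mem_bot, commutatorElement_eq_one_iff_mul_comm]
  exact congrArg Subtype.val ((MonoidHom.isMulCommutative_of_isCyclic_of_ker_le_center _ h10).is_comm.comm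
    (⟨a, ha⟩ : A) ⟨b, hb⟩)

theorem card_eq_map_mul {X Y : Type*} [Group X] [Group Y] (f : X →* Y) {A : Subgroup X} (h : f.ker ≤ A) :
    Nat.card A = Nat.card (A.map f) * Nat.card f.ker := by
  rw [← Nat.card_congr (subgroupOfEquivOfLe h).toEquiv, ← MonoidHom.ker_domRestrict, ← MonoidHom.domRestrict_range,
    ← index_ker, mul_comm, card_mul_index]

theorem three_step {X : Type*} [Group X] [Finite X] {j : ℕ}
    (h : derivedSeries X (j + 3) ≠ derivedSeries X (j + 2)) :
    cardFactors (Nat.card (derivedSeries X (j + 3))) + 3 ≤ cardFactors (Nat.card (derivedSeries X (j + 1))) := by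
  let f := QuotientGroup.mk' (derivedSeries X (j + 3))
  have hf : Function.Surjective f := QuotientGroup.mk'_surjective _
  have hk : f.ker = derivedSeries X (j + 3) := QuotientGroup.ker_mk' _
  have h1 : derivedSeries (X ⧸ derivedSeries X (j + 3)) (j + 3) = ⊥ := by
    rw [← map_derivedSeries_of_surj hf, Subgroup.map_eq_bot_iff, hk]
  have h2 : derivedSeries (X ⧸ derivedSeries X (j + 3)) (j + 2) ≠ ⊥ := by
    rw [← map_derivedSeries_of_surj hf, Ne, Subgroup.map_eq_bot_iff, hk]
    exact fun h3 => h (le_antisymm (derivedSeries_antitone X (Nat.le_succ _)) h3)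
  have h3 := three_le_of_bot h1 h2
  have h4 := card_eq_map_mul f (A := derivedSeries X (j + 1)) (by rw [hk]; exact derivedSeries_antitone X (by omega))
  rw [h4, cardFactors_mul Nat.card_pos.ne' Nat.card_pos.ne', map_derivedSeries_of_surj hf, hk]
  omega

/-- `PS k X` if `Ω(|X|) ≤ k + k / 2`. -/
theorem ps_of_omega {X : Type*} [Group X] [Finite X] {k : ℕ} (h : cardFactors (Nat.card X) ≤ k + k / 2) : PS k X := by
  by_contra hk
  have h0 : ∀ i ≤ k, derivedSeries X (i + 1) ≠ derivedSeries X i := fun i hi h4 => hk (PS.mono h4 hi)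
  have h1 : ∀ i ≤ k, cardFactors (Nat.card (derivedSeries X (i + 1))) + 1 ≤
      cardFactors (Nat.card (derivedSeries X i)) := by
    intro i hi
    have h2 : derivedSeries X (i + 1) ≤ derivedSeries X i := derivedSeries_antitone X (Nat.le_succ _)
    have h3 := omega_of_le h2
    have h4 := omega_pos_of_ne h2 (h0 i hi)
    omega
  have h2 : ∀ t, 2 * t ≤ k → cardFactors (Nat.card (derivedSeries X (2 * t + 1))) + 3 * t ≤
      cardFactors (Nat.card (derivedSeries X 1)) := by
    intro t
    induction t with
    | zero => intro _; exact le_rfl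
    | succ t ih =>
      intro ht
      have h3 := ih (by omega)
      have h4 := three_step (h0 (2 * t + 2) (by omega))
      rw [show 2 * (t + 1) + 1 = 2 * t + 3 by omega]
      omega
  have h3 := h1 0 (Nat.zero_le _)
  rw [derivedSeries_zero, card_top, zero_add] at h3
  have h4 := h2 (k / 2) (by omega)
  rcases Nat.even_or_odd' k with ⟨t, rfl | rfl⟩
  · omega
  · have h5 := h1 (2 * t + 1) le_rfl
    rw [show (2 * t + 1) / 2 = t by omega] at h h4
    omega

/-- the same with a multiple of the order -/
theorem ps_of_dvd {X : Type*} [Group X] [Finite X] {k N : ℕ} (hN : Nat.card X ∣ N) (h0 : N ≠ 0)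
    (h : cardFactors N ≤ k + k / 2) : PS k X := by
  obtain ⟨c, rfl⟩ := hN
  rw [cardFactors_mul (left_ne_zero_of_mul h0) (right_ne_zero_of_mul h0)] at h
  exact ps_of_omega (by omega)

theorem ps_one_of_comm {X : Type*} [Group X] (h : ∀ a b : X, a * b = b * a) : PS 1 X := by
  refine PS.of_bot ?_
  rw [derivedSeries_one, _root_.commutator_def, eq_bot_iff, Subgroup.commutator_le]
  intro a _ b _
  rw [mem_bot, commutatorElement_eq_one_iff_mul_comm]
  exact h a b

/-- central extensions -/
theorem ps_of_center {X : Type*} [Group X] {k : ℕ} (h : PS k (X ⧸ center X)) : PS (1 + k) X :=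
  PS.of_normal (center X) (ps_one_of_comm fun a b => Subtype.ext (mem_center_iff.1 b.2 a)) h

/-- from the commutator subgroup -/
theorem ps_of_commutator {X : Type*} [Group X] {k : ℕ} (h : PS k (commutator X)) : PS (k + 1) X :=
  PS.of_normal (commutator X) h (ps_one_of_comm fun a b => mul_comm (G := Abelianization X) a b)

theorem ps_zero_of_commutator {X : Type*} [Group X] (h : commutator X = ⊤) : PS 0 X := by
  unfold PS
  rw [derivedSeries_one, derivedSeries_zero, h]

end Cfsg.Agent.DS.Gen
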